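import Groth.Agent.Props58.Stalks
import Groth.Agent.QC70.PushClosed
import Groth.Agent.E4O.RectDepth
import Groth.Agent.Div89.FreeStalks
import Groth.Agent.Props58.LocFree.Criteria
import Groth.Agent.EGA4Alg4.Depth
import Groth.Agent.VarGal.SmoothReg
import Groth.Prelude.Def_TorSh

/-!
Elementary transformations of bundles along torsion-free sheaves on curves in regular surfaces.
-/

set_option autoImplicit false
set_option backward.isDefEq.respectTransparency false

universe u

open CategoryTheory CategoryTheory.Limits AlgebraicGeometry IsLocalRing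

namespace Groth.Agent.Surf97

/-- The kernel of a surjection from a free module onto a module with a regular element is free in
dimension at most two. -/
theorem free_of_injective_exact {R K F Q : Type u} [CommRing R] [IsRegularLocalRing R]
    [AddCommGroup K] [Module R K] [Module.Finite R K]
    [AddCommGroup F] [Module R F] [Module.Finite R F] [Module.Free R F]
    [AddCommGroup Q] [Module R Q]
    (a : K →ₗ[R] F) (b : F →ₗ[R] Q) (ha : Function.Injective a) (hab : Function.Exact a b)
    (hb : Function.Surjective b) (hd2 : ringKrullDim R ≤ 2)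
    (h : ringKrullDim R ≤ 1 ∨ Subsingleton Q ∨ ∃ r ∈ maximalIdeal R, IsSMulRegular Q r) :
    Module.Free R K := by
  haveI : Module.Finite R Q := Module.Finite.of_surjective b hb
  rcases subsingleton_or_nontrivial Q with hQ | hQ
  · have hs : Function.Surjective a := fun y => (hab y).1 (Subsingleton.elim _ _)
    exact Module.Free.of_equiv (LinearEquiv.ofBijective a ⟨ha, hs⟩).symm
  obtain ⟨d, e, n, hd, hn, he, hne⟩ := E4O.depth_add_pd_eq_dim R Q
  have he1 : e ≤ 1 := by
    rw [hd] at hd2 h
    have hd2' : d ≤ 2 := by exact_mod_cast hd2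
    rcases h with h | h | ⟨r, hr, hreg⟩
    · have : d ≤ 1 := by exact_mod_cast h
      omega
    · exact absurd h (not_subsingleton Q)
    · by_contra hcon
      have hn0 : n = 0 := by omega
      rw [hn0, Nat.cast_zero, EGA4Alg4.depth_eq_zero_iff, EGA4Alg4.maximalIdeal_mem_assoc_iff] at hn
      exact hn r hr hreg
  have hQpd : HasProjectiveDimensionLT (ModuleCat.of R Q) 2 := by
    show HasProjectiveDimensionLE (ModuleCat.of R Q) 1
    rw [← projectiveDimension_le_iff, he]
    exact_mod_cast he1
  haveI : Projective (ModuleCat.of R F) := (IsProjective.iff_projective (R := R) F).1 inferInstance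
  let T : ShortComplex (ModuleCat.{u} R) := ShortComplex.mk (ModuleCat.ofHom a) (ModuleCat.ofHom b)
    (ModuleCat.hom_ext hab.linearMap_comp_eq_zero)
  have hT : T.ShortExact :=
    { exact := (ShortComplex.ShortExact.moduleCat_exact_iff_function_exact T).2 hab
      mono_f := (ModuleCat.mono_iff_injective _).2 ha
      epi_g := (ModuleCat.epi_iff_surjective _).2 hb }
  haveI hK : HasProjectiveDimensionLT T.X₁ 1 :=
    hT.hasProjectiveDimensionLT_X₁ 1 (inferInstanceAs (HasProjectiveDimensionLT (ModuleCat.of R F) 1)) hQpd
  haveI : Projective (ModuleCat.of R K) := inferInstanceAs (Projective T.X₁)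
  haveI : Module.Projective R K := (IsProjective.iff_projective (R := R) K).2 inferInstance
  exact Module.free_of_flat_of_isLocalRing

/-- A point which is not closed has stalk dimension less than the dimension of the scheme. -/
theorem ringKrullDim_stalk_add_one_le {X : Scheme.{u}} {x y : X} (hxy : x ⤳ y) (hne : ¬ y ⤳ x) :
    ringKrullDim (X.presheaf.stalk x) + 1 ≤ topologicalKrullDim X := by
  have hlt : y < x := lt_of_le_not_ge hxy hne
  have h1 : Order.coheight x + 1 ≤ Order.coheight y := Order.coheight_add_one_le hlt
  refine le_trans ?_ (Props58.ringKrullDim_stalk_le X y)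
  rw [ringKrullDim_stalk_eq_coheight, ringKrullDim_stalk_eq_coheight]
  exact_mod_cast h1

open QC70 in
theorem isFinLocFree_kernel {k : Type u} [Field k] {S C : Scheme.{u}} (p : S ⟶ Spec (CommRingCat.of k))
    [Smooth p] (hdim : topologicalKrullDim S ≤ 2) (j : C ⟶ S) [IsClosedImmersion j] [IsIntegral C]
    (hC : topologicalKrullDim C ≠ 0) (M : C.Modules) (hM : Coh.IsCoh M) (hMtf : TorSh.IsTorsionFree M)
    (F : S.Modules) (hF : FlatMod.IsFinLocFree F) (f : F ⟶ (Scheme.Modules.pushforward j).obj M) [Epi f] :
    FlatMod.IsFinLocFree (kernel f) := by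
  haveI : IsLocallyNoetherian S := LocallyOfFiniteType.isLocallyNoetherian p
  have hFc : Coh.IsCoh F := ⟨Props58.LocFree.isQuasicoherent_of_isFinLocFree hF, Props58.LocFree.isFiniteType_of_isFinLocFree hF⟩
  have hP := QC70.isCoh_pushforward j M hM
  have hK : Coh.IsCoh (kernel f) := QC70.isCoh_kernel f hFc hP.1
  rw [Div89.isFinLocFree_iff_free_stalks hK]
  intro x
  haveI := VarGal.isRegularLocalRing_stalk_of_smooth p x
  haveI := hK.2
  haveI := hFc.2
  haveI := Props58.LocFree.finite_stalk_of_isFiniteType (M := kernel f) x
  haveI := Props58.LocFree.finite_stalk_of_isFiniteType (M := F) x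
  haveI := Props58.LocFree.free_stalk_of_isFinLocFree hF x
  have hex : (ShortComplex.mk (kernel.ι f) f (kernel.condition f)).Exact :=
    ShortComplex.exact_kernel f
  refine free_of_injective_exact (stalkLinear (kernel.ι f) x) (stalkLinear f x)
    (injective_stalkMapM_of_mono _ x) (fun e => ⟨fun he => stalkMapM_exact _ hex x e he, ?_⟩)
    (surjective_stalkMapM_of_epi f x) ((Props58.ringKrullDim_stalk_le S x).trans hdim) ?_
  · rintro ⟨d, rfl⟩
    show stalkMapM f x (stalkMapM (kernel.ι f) x d) = 0
    rw [← stalkMapM_comp, kernel.condition, stalkMapM_zero]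
  by_cases hx : x ∈ Set.range j
  · obtain ⟨c, rfl⟩ := hx
    by_cases hfield : IsField (C.presheaf.stalk c)
    · left
      have hne : ∃ c' : C, c' ≠ c := by
        by_contra hall
        push Not at hall
        haveI : Subsingleton C := ⟨fun a b => (hall a).trans (hall b).symm⟩
        haveI : Nonempty C := ⟨c⟩
        haveI : Nonempty (TopologicalSpace.IrreducibleCloseds C) :=
          ⟨⟨closure {c}, isIrreducible_singleton.closure, isClosed_closure⟩⟩
        haveI : Subsingleton (TopologicalSpace.IrreducibleCloseds C) := ⟨fun a b =>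
          TopologicalSpace.IrreducibleCloseds.ext ((Subsingleton.eq_univ_of_nonempty a.isIrreducible.nonempty).trans
            (Subsingleton.eq_univ_of_nonempty b.isIrreducible.nonempty).symm)⟩
        exact hC Order.krullDim_eq_zero
      obtain ⟨c', hc'⟩ := hne
      have hgen : c = genericPoint C := by
        by_contra hcg
        have hlt : c < genericPoint C := lt_of_le_not_ge (genericPoint_specializes c)
          (fun h => hcg ((genericPoint_specializes c).antisymm h).eq.symm)
        have h1 : Order.coheight (genericPoint C) + 1 ≤ Order.coheight c := Order.coheight_add_one_le hlt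
        have h0 : ringKrullDim (C.presheaf.stalk c) = 0 := ringKrullDim_eq_zero_of_isField hfield
        rw [ringKrullDim_stalk_eq_coheight] at h0
        have h0' : Order.coheight c = 0 := by exact_mod_cast h0
        rw [h0'] at h1
        simp at h1
      have h2 := ringKrullDim_stalk_add_one_le (X := S) (x := j c) (y := j c')
        ((hgen ▸ genericPoint_specializes c').map j.continuous) (fun h => hc' ((j.isClosedEmbedding.isInducing.specializes_iff.1 h).antisymm
          (hgen ▸ genericPoint_specializes c')).eq)
      have h3 : ringKrullDim (S.presheaf.stalk (j c)) + 1 ≤ 2 := h2.trans hdim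
      rw [ringKrullDim_stalk_eq_coheight] at h3 ⊢
      have h4 : Order.coheight (j c) + 1 ≤ (1 : ℕ∞) + 1 := by
        rw [show (1 : ℕ∞) + 1 = 2 from rfl]
        rw [← WithBot.coe_one, ← WithBot.coe_add] at h3
        exact WithBot.coe_le_coe.1 h3
      exact_mod_cast (ENat.add_le_add_iff_right ENat.one_ne_top).1 h4
    · right; right
      obtain ⟨s, hs, hs0⟩ : ∃ s ∈ maximalIdeal (C.presheaf.stalk c), s ≠ 0 :=
        Submodule.exists_mem_ne_zero_of_ne_bot (mt IsLocalRing.isField_iff_maximalIdeal_eq.2 hfield)
      obtain ⟨r, rfl⟩ := j.stalkMap_surjective c s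
      refine ⟨r, (IsLocalRing.mem_maximalIdeal r).2 fun hu => (IsLocalRing.mem_maximalIdeal _).1 hs
        (hu.map (j.stalkMap c).hom), fun a b hab => (bijective_pushStalk j M c).1 ?_⟩
      have h2 := congrArg (pushStalk j M c) hab
      simp only [pushStalk_smul] at h2
      haveI := hMtf c
      exact ((IsRegular.of_ne_zero hs0).isSMulRegular) h2
  · right; left
    haveI := hM.2
    exact notMem_support_iff.1 fun h => hx (support_pushforward_subset j M h)

end Groth.Agent.Surf97
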